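import Mathlib.AlgebraicGeometry.Morphisms.Flat
import Mathlib.AlgebraicGeometry.Morphisms.Preimmersion
import Mathlib.AlgebraicGeometry.Morphisms.FiniteType
import Mathlib.AlgebraicGeometry.Stalk
import Mathlib.AlgebraicGeometry.ResidueField
import Mathlib.RingTheory.Flat.FaithfullyFlat.Basic
import Mathlib.RingTheory.EssentialFiniteness

/-!
Small facts about flat preimmersions, residue fields and spectra of stalks (light imports).
-/

set_option autoImplicit false
set_option linter.style.haveILetI false
set_option backward.isDefEq.respectTransparency.types false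
set_option backward.isDefEq.respectTransparency false

universe u

open CategoryTheory AlgebraicGeometry TopologicalSpace IsLocalRing

namespace Groth.L15.OmegaGen

variable {Z : Scheme.{u}}

theorem isReduced_of_flat_preimmersion {P Q : Scheme.{u}} (g : P ⟶ Q) [Flat g] [IsPreimmersion g]
    [AlgebraicGeometry.IsReduced Q] : AlgebraicGeometry.IsReduced P := by
  haveI : ∀ z : P, _root_.IsReduced (P.presheaf.stalk z) := fun z => by
    letI := (g.stalkMap z).hom.toAlgebra
    haveI : Module.Flat (Q.presheaf.stalk (g z)) (P.presheaf.stalk z) := Flat.stalkMap g z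
    haveI : IsLocalHom (algebraMap (Q.presheaf.stalk (g z)) (P.presheaf.stalk z)) :=
      inferInstanceAs (IsLocalHom (g.stalkMap z).hom)
    haveI : Module.FaithfullyFlat (Q.presheaf.stalk (g z)) (P.presheaf.stalk z) :=
      Module.FaithfullyFlat.of_flat_of_isLocalHom
    let e := RingEquiv.ofBijective (g.stalkMap z).hom
      ⟨FaithfulSMul.algebraMap_injective (Q.presheaf.stalk (g z)) (P.presheaf.stalk z),
        g.stalkMap_surjective z⟩
    exact isReduced_of_injective e.symm e.symm.injective
  exact isReduced_of_isReduced_stalk P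

theorem flat_fromSpecStalk (z : Z) : Flat (Z.fromSpecStalk z) := by
  obtain ⟨U, hU, hzU, -⟩ := exists_isAffineOpen_mem_and_subset (U := (⊤ : Z.Opens)) (x := z) trivial
  rw [← hU.fromSpecStalk_eq_fromSpecStalk hzU, IsAffineOpen.fromSpecStalk]
  haveI : Flat (Spec.map (Z.presheaf.germ U z hzU)) := by
    refine (HasRingHomProperty.Spec_iff (P := @Flat)).mpr ?_
    letI := Z.presheaf.algebra_section_stalk ⟨z, hzU⟩
    haveI := hU.isLocalization_stalk ⟨z, hzU⟩
    exact RingHom.flat_algebraMap_iff.mpr
      (IsLocalization.flat _ (hU.primeIdealOf ⟨z, hzU⟩).asIdeal.primeCompl)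
  infer_instance

theorem isIso_residue (z : Z) (hz : IsField (Z.presheaf.stalk z)) : IsIso (Z.residue z) :=
  (ConcreteCategory.isIso_iff_bijective _).2 ⟨(RingHom.injective_iff_ker_eq_bot _).2
    (IsLocalRing.ker_residue.trans (IsLocalRing.isField_iff_maximalIdeal_eq.1 hz)), Z.residue_surjective _⟩

/-- The residue fields of a scheme of finite type over a field are essentially of finite type. -/
theorem essFiniteType_residueField {K : CommRingCat.{u}} (p : Z ⟶ Spec K) [LocallyOfFiniteType p] (z : Z)
    (φ : K ⟶ Z.residueField z) (hφ : Spec.map φ = Z.fromSpecResidueField z ≫ p) :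
    φ.hom.EssFiniteType := by
  obtain ⟨V, hV, hzV, -⟩ := exists_isAffineOpen_mem_and_subset (U := (⊤ : Z.Opens)) (x := z) trivial
  obtain ⟨χ, hχ⟩ := Spec.map_surjective (hV.fromSpec ≫ p)
  have h1 : χ.hom.FiniteType :=
    (HasRingHomProperty.Spec_iff (P := @LocallyOfFiniteType)).1 (hχ ▸ inferInstance)
  have h2 : φ = χ ≫ Z.presheaf.germ V z hzV ≫ Z.residue z := by
    apply Spec.map_injective
    rw [hφ, Spec.map_comp, hχ, Spec.map_comp]
    show (Spec.map (Z.residue z) ≫ Z.fromSpecStalk z) ≫ p = _
    rw [← hV.fromSpecStalk_eq_fromSpecStalk hzV]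
    simp only [IsAffineOpen.fromSpecStalk, Category.assoc]
  subst h2
  have h3 : (Z.presheaf.germ V z hzV).hom.EssFiniteType := by
    letI := TopCat.Presheaf.algebra_section_stalk Z.presheaf (⟨z, hzV⟩ : V)
    haveI := hV.isLocalization_stalk ⟨z, hzV⟩
    exact RingHom.essFiniteType_algebraMap.mpr
      (Algebra.EssFiniteType.of_isLocalization _ (hV.primeIdealOf ⟨z, hzV⟩).asIdeal.primeCompl)
  have h4 : (Z.residue z).hom.FiniteType :=
    RingHom.FiniteType.of_surjective _ (Z.residue_surjective z)
  exact (h1.essFiniteType.comp h3).comp h4.essFiniteType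

end Groth.L15.OmegaGen
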