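import Groth.Agent.L15.OmegaGen.Field
import Groth.Agent.L19.OmegaSh.OmAff
import Groth.Agent.L19.OmegaSh.DiffCompat
import Groth.Agent.L17.FinLocBases
import Groth.Agent.L22.SchemeDim
import Groth.Agent.L22.FibreDim
import Groth.Prelude.Def_ExtPow2

/-!
Evaluation of sections of the sheaf of differentials at the generic point; independent pullbacks of
differentials from the image of a morphism with geometrically reduced generic fibre.
-/

set_option autoImplicit false
set_option linter.style.haveILetI false
set_option backward.isDefEq.respectTransparency.types false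
set_option backward.isDefEq.respectTransparency false

universe u

open CategoryTheory CategoryTheory.Limits AlgebraicGeometry TopologicalSpace Opposite

noncomputable section

namespace Groth.L15.OmegaGen

open Groth.L18.Frame (rs ro rs_rs ro_ro rs_smul ro_self rs_self)
open Groth.L19.OmegaSh
open _root_.OmegaSh (Der IsUniversal IsDiffCompat pullSect)

/-- The germ at the generic point, into the function field. -/
def toFF (X : Scheme.{u}) [IsIntegral X] (V : X.Opens) (h : genericPoint X ∈ V) : Γ(X, V) →+* X.functionField :=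
  (X.presheaf.germ V (genericPoint X) h).hom

theorem toFF_ro (X : Scheme.{u}) [IsIntegral X] {V W : X.Opens} (hW : genericPoint X ∈ W) (h : W ≤ V)
    (r : Γ(X, V)) : toFF X W hW (ro h r) = toFF X V (h hW) r :=
  X.presheaf.germ_res_apply (homOfLE h) _ hW r

/-- A semilinear evaluation of sections at the generic point. -/
structure Eval {X : Scheme.{u}} [IsIntegral X] (Ω : X.Modules) (M : Type u) [AddCommGroup M]
    [Module X.functionField M] where
  ψ : ∀ V : X.Opens, genericPoint X ∈ V → (Γ(Ω, V) →+ M)
  res : ∀ (V W : X.Opens) (hW : genericPoint X ∈ W) (h : W ≤ V) (s : Γ(Ω, V)),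
    ψ W hW (rs Ω h s) = ψ V (h hW) s
  smul : ∀ (V : X.Opens) (hV : genericPoint X ∈ V) (r : Γ(X, V)) (s : Γ(Ω, V)),
    ψ V hV (r • s) = toFF X V hV r • ψ V hV s

/-- The evaluation at the generic point sends `d a` to the differential of the germ. -/
theorem exists_eval {k : Type u} [Field k] {X : Scheme.{u}} [IsIntegral X] (sX : X ⟶ Spec (CommRingCat.of k))
    [Algebra k X.functionField]
    (hk : Spec.map (CommRingCat.ofHom (algebraMap k X.functionField)) =
      X.fromSpecStalk (genericPoint X) ≫ sX)
    {Ω : X.Modules} {d : Der sX Ω} (hd : IsUniversal d) :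
    ∃ E : Eval Ω Ω[X.functionField⁄k], ∀ (V : X.Opens) (hV : genericPoint X ∈ V) (a : Γ(X, V)),
      E.ψ V hV (d.app V a) = KaehlerDifferential.D k X.functionField (toFF X V hV a) := by
  let j : Spec (CommRingCat.of X.functionField) ⟶ X := X.fromSpecStalk (genericPoint X)
  let M : ModuleCat.{u} (CommRingCat.of X.functionField) :=
    ModuleCat.of X.functionField Ω[X.functionField⁄k]
  let γ := Scheme.ΓSpecIso (CommRingCat.of X.functionField)
  obtain ⟨D, -, hDa⟩ := exists_universal_tilde (Y := Spec (CommRingCat.of k)) (R := k) (A := X.functionField)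
    (𝟙 _) (j ≫ sX) ((Category.comp_id _).trans hk)
  obtain ⟨α, hα, -⟩ := hd _ (pushDerSq j (𝟙 (Spec (CommRingCat.of k))) (f := sX) (Category.comp_id _) D)
  have hle : ∀ V : X.Opens, genericPoint X ∈ V → (⊤ : (Spec (CommRingCat.of X.functionField)).Opens) ≤ j ⁻¹ᵁ V := by
    intro V hV p _
    have hp : p = IsLocalRing.closedPoint (X.functionField : Type u) := Subsingleton.elim (α := PrimeSpectrum _) _ _
    subst hp
    show j _ ∈ V
    rw [show j (IsLocalRing.closedPoint (X.functionField : Type u)) = genericPoint X from
      Scheme.fromSpecStalk_closedPoint]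
    exact hV
  have hro : ∀ (V : X.Opens) (hV : genericPoint X ∈ V) (r : Γ(X, V)),
      ro (hle V hV) (j.app V r) = γ.inv (toFF X V hV r) := by
    intro V hV r
    have h := congrArg (fun φ : Γ(X, V) ⟶ _ => φ r) (Scheme.fromSpecStalk_app (X := X) hV)
    refine (congrArg (ro (hle V hV)) h).trans ?_
    refine (ro_ro (le_top) (hle V hV) _).trans ?_
    exact ro_self _ _
  refine ⟨⟨fun V hV => (tilde.isoTop M).inv.hom.toAddMonoidHom.comp
      (((tilde M).presheaf.map (homOfLE (hle V hV)).op).hom.comp (α.app V).hom), ?_, ?_⟩, ?_⟩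
  · intro V W hW h s
    show (tilde.isoTop M).inv (rs (tilde M) (hle W hW) (α.app W (rs Ω h s))) =
      (tilde.isoTop M).inv (rs (tilde M) (hle V (h hW)) (α.app V s))
    congr 1
    rw [show α.app W (rs Ω h s) = rs (tilde M) (Scheme.Hom.preimage_mono j h) (α.app V s) from
      congr($(α.mapPresheaf.naturality (homOfLE h).op) s)]
    exact rs_rs _ _ _ _
  · intro V hV r s
    show (tilde.isoTop M).inv (rs (tilde M) (hle V hV) (α.app V (r • s))) =
      toFF X V hV r • (show M from (tilde.isoTop M).inv (rs (tilde M) (hle V hV) (α.app V s)))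
    rw [Scheme.Modules.Hom.app_smul]
    rw [show (r • α.app V s : Γ((Scheme.Modules.pushforward j).obj (tilde M), V)) =
      (show Γ(tilde M, j ⁻¹ᵁ V) from j.app V r • (show Γ(tilde M, j ⁻¹ᵁ V) from α.app V s)) from rfl,
      rs_smul, hro]
    generalize rs (tilde M) (hle V hV) (α.app V s) = t
    obtain ⟨m, rfl⟩ := (bijective_toOpen_top M).2 t
    have hm : ∀ w : M, (tilde.isoTop M).inv (show Γ(tilde M, ⊤) from (tilde.toOpen M ⊤).hom w) = w := fun w =>
      congr($((tilde.isoTop M).hom_inv_id) w)
    refine (congrArg (tilde.isoTop M).inv (toOpen_smul M (toFF X V hV r) m).symm).trans ?_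
    exact (hm _).trans (congrArg (toFF X V hV r • ·) (hm m).symm)
  · intro V hV a
    show (tilde.isoTop M).inv (rs (tilde M) (hle V hV) (α.app V (d.app V a))) = _
    have h1 : α.app V (d.app V a) = D.app (j ⁻¹ᵁ V) (j.app V a) :=
      congrArg (fun E : Der sX _ => E.app V a) hα
    rw [h1, ← der_map, hro V hV a]
    exact (congrArg (tilde.isoTop M).inv (hDa _)).trans
      (congr($((tilde.isoTop M).hom_inv_id) (KaehlerDifferential.D k X.functionField (toFF X V hV a))))

/-- Sections with independent values at the generic point are linearly independent. -/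
theorem Eval.linearIndependent {X : Scheme.{u}} [IsIntegral X] {Ω : X.Modules} {M : Type u} [AddCommGroup M]
    [Module X.functionField M] (E : Eval Ω M) {m : ℕ} (V : X.Opens) (hV : genericPoint X ∈ V)
    (s : Fin m → Γ(Ω, V)) (hs : LinearIndependent X.functionField (fun i => E.ψ V hV (s i))) :
    LinearIndependent Γ(X, V) s := by
  rw [Fintype.linearIndependent_iff] at hs ⊢
  intro g hg i
  have h := congrArg (E.ψ V hV) hg
  simp only [map_sum, E.smul, map_zero] at h
  have h0 := hs _ h i
  haveI : Nonempty V := ⟨⟨_, hV⟩⟩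
  exact germ_injective_of_isIntegral X (genericPoint X) hV (h0.trans (map_zero _).symm)

/-- An exterior product of sections with independent values at the generic point is nonzero. -/
theorem Eval.ιMulti_ne_zero {X : Scheme.{u}} [IsIntegral X] {Ω : X.Modules} {M : Type u} [AddCommGroup M]
    [Module X.functionField M] (E : Eval Ω M) {m : ℕ} (V : X.Opens) (hV : genericPoint X ∈ V)
    (s : Fin m → Ω.val.obj (op V)) (hs : LinearIndependent X.functionField (fun i => E.ψ V hV (s i))) :
    exteriorPower.ιMulti Γ(X, V) m s ≠ 0 := by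
  classical
  letI : Algebra Γ(X, V) X.functionField := (toFF X V hV).toAlgebra
  let w := Finsupp.linearCombination X.functionField (fun i => E.ψ V hV (s i))
  obtain ⟨l, hl⟩ := w.exists_leftInverse_of_injective (LinearMap.ker_eq_bot.2 hs)
  let L : Ω.val.obj (op V) →ₗ[Γ(X, V)] (Fin m → X.functionField) :=
    { toFun := fun t i => l (E.ψ V hV t) i
      map_add' := fun a b => by
        funext i
        show l (E.ψ V hV (a + b)) i = _
        rw [show E.ψ V hV (a + b) = E.ψ V hV a + E.ψ V hV b from map_add (E.ψ V hV) a b, map_add]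
        rfl
      map_smul' := fun r a => by
        funext i
        show l (E.ψ V hV (r • a)) i = toFF X V hV r * l (E.ψ V hV a) i
        rw [show E.ψ V hV (r • a) = toFF X V hV r • E.ψ V hV a from E.smul V hV r a, map_smul]
        rfl }
  let det : AlternatingMap Γ(X, V) (Ω.val.obj (op V)) X.functionField (Fin m) :=
    { toMultilinearMap :=
        ((Matrix.detRowAlternating (R := X.functionField) (n := Fin m)).toMultilinearMap.restrictScalars
          Γ(X, V)).compLinearMap fun _ => L
      map_eq_zero_of_eq' := fun v i j hij hne =>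
        (Matrix.detRowAlternating (R := X.functionField) (n := Fin m)).map_eq_zero_of_eq _ (congrArg L hij) hne }
  intro h0
  have h1 : det s = 1 := by
    show Matrix.det (Matrix.of fun i => L (s i)) = 1
    have : (Matrix.of fun i => L (s i)) = (1 : Matrix (Fin m) (Fin m) X.functionField) := by
      ext i j
      show l (E.ψ V hV (s i)) j = _
      have hli := LinearMap.congr_fun hl (Finsupp.single i 1)
      simp only [LinearMap.comp_apply, w, Finsupp.linearCombination_single, one_smul, LinearMap.id_apply] at hli
      rw [hli, Matrix.one_apply, Finsupp.single_apply]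
    rw [this, Matrix.det_one]
  have h2 := exteriorPower.alternatingMapLinearEquiv_apply_ιMulti det s
  rw [h0, map_zero] at h2
  exact one_ne_zero (h1.symm.trans h2.symm)

/-- The function field is formally smooth over the residue field of a point. -/
theorem exists_residue_map {X Z : Scheme.{u}} [IsIntegral X] (f : X ⟶ Z) :
    ∃ π : Z.residueField (f (genericPoint X)) →+* X.functionField,
      Spec.map (CommRingCat.ofHom π) ≫ Z.fromSpecResidueField (f (genericPoint X)) =
        X.fromSpecStalk (genericPoint X) ≫ f ∧
      ∀ (W : Z.Opens) (hW : f (genericPoint X) ∈ W) (b : Γ(Z, W)),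
        π (Z.residue (f (genericPoint X)) (Z.presheaf.germ W (f (genericPoint X)) hW b)) =
          toFF X (f ⁻¹ᵁ W) hW (f.app W b) := by
  haveI := isIso_residue (Z := X) (genericPoint X) (Field.toIsField X.functionField)
  refine ⟨(f.residueFieldMap (genericPoint X) ≫ inv (X.residue (genericPoint X))).hom, ?_, fun W hW b => ?_⟩
  · show Spec.map (f.residueFieldMap (genericPoint X) ≫ inv (X.residue (genericPoint X))) ≫ _ = _
    rw [Spec.map_comp, Category.assoc, Scheme.Hom.SpecMap_residueFieldMap_fromSpecResidueField,
      Scheme.fromSpecResidueField, Category.assoc, ← Spec.map_comp_assoc, IsIso.hom_inv_id, Spec.map_id,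
      Category.id_comp]
  · show (Z.residue _ ≫ f.residueFieldMap (genericPoint X) ≫ inv (X.residue (genericPoint X)))
      (Z.presheaf.germ W _ hW b) = _
    rw [← Category.assoc, Scheme.residue_residueFieldMap, Category.assoc, IsIso.hom_inv_id, Category.comp_id]
    exact Scheme.Hom.germ_stalkMap_apply f W (genericPoint X) hW b

/-- Global sections of `Ω_X` pulled back from a free `f^*Ω_Z`, independent at the generic point. -/
theorem exists_independent_sections (k : Type u) [Field k] (X Z : Scheme.{u}) [IsIntegral X]
    [Z.Over (Spec (CommRingCat.of k))] [LocallyOfFiniteType (Z ↘ Spec (CommRingCat.of k))]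
    (sX : X ⟶ Spec (CommRingCat.of k)) (f : X ⟶ Z) (hf : f ≫ (Z ↘ Spec (CommRingCat.of k)) = sX)
    (m : ℕ) (hm : topologicalKrullDim (closure ({f (genericPoint X)} : Set Z)) = m)
    (hsep : GeometricallyReduced (pullback.snd f (Z.fromSpecResidueField (f (genericPoint X)))))
    {ΩZ : Z.Modules} {dZ : Der (Z ↘ Spec (CommRingCat.of k)) ΩZ}
    {ΩX : X.Modules} {dX : Der sX ΩX} (hdX : IsUniversal dX)
    {c : (Scheme.Modules.pullback f).obj ΩZ ⟶ ΩX} (hc : IsDiffCompat f dZ dX c)
    {n : ℕ} (e : (Scheme.Modules.pullback f).obj ΩZ ≅ FlatMod.freeMod X n) :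
    ∃ (M : Type u) (_ : AddCommGroup M) (_ : Module X.functionField M) (E : Eval ΩX M)
      (s : Fin m → Γ(ΩX, ⊤)), LinearIndependent X.functionField (fun i => E.ψ ⊤ trivial (s i)) := by
  subst hf
  obtain ⟨π, hπ, hgerm⟩ := exists_residue_map f
  let η := f (genericPoint X)
  letI := Curv2.resAlgebra k Z η
  letI : Algebra k X.functionField := (π.comp (algebraMap k (Z.residueField η))).toAlgebra
  letI : Algebra (Z.residueField η) X.functionField := π.toAlgebra
  haveI : IsScalarTower k (Z.residueField η) X.functionField := IsScalarTower.of_algebraMap_eq' rfl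
  haveI : Flat (X.fromSpecStalk (genericPoint X)) := flat_fromSpecStalk _
  haveI : Algebra.FormallySmooth (Z.residueField η) X.functionField := by
    haveI : AlgebraicGeometry.IsReduced (pullback f (Spec.map (CommRingCat.ofHom
        (algebraMap (Z.residueField η) (AlgebraicClosure (Z.residueField η)))) ≫ Z.fromSpecResidueField η)) := by
      haveI : AlgebraicGeometry.IsReduced (pullback (pullback.snd f (Z.fromSpecResidueField η))
          (Spec.map (CommRingCat.ofHom (algebraMap (Z.residueField η) (AlgebraicClosure (Z.residueField η)))))) :=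
        hsep.geometrically_isReduced _ _ _ (IsPullback.of_hasPullback _ _)
      exact isReduced_of_isOpenImmersion (pullbackLeftPullbackSndIso f (Z.fromSpecResidueField η)
        (Spec.map (CommRingCat.ofHom (algebraMap (Z.residueField η) (AlgebraicClosure (Z.residueField η)))))).inv
    exact formallySmooth_of_pullback f (genericPoint X) (Z.residueField η) X.functionField
      (Z.fromSpecResidueField η) (X.fromSpecStalk (genericPoint X)) π hπ ‹_›
  haveI : Algebra.EssFiniteType k (Z.residueField η) :=
    RingHom.essFiniteType_algebraMap.mp (essFiniteType_residueField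
      (Z ↘ Spec (CommRingCat.of k)) η (CommRingCat.ofHom (Curv2.resMap k Z η))
      (Groth.L22.FibreDim.SpecMap_resMap k Z η))
  have htr : Algebra.trdeg k (Z.residueField η) = m := by
    obtain ⟨m', h1, h2⟩ := Groth.L22.SchemeDim.exists_dim_closure_eq_trdeg k Z η
    have : (m' : WithBot ℕ∞) = m := h1.symm.trans hm
    rw [h2]; exact_mod_cast this
  have hk : Spec.map (CommRingCat.ofHom (algebraMap k X.functionField)) =
      X.fromSpecStalk (genericPoint X) ≫ f ≫ (Z ↘ Spec (CommRingCat.of k)) := by
    show Spec.map (CommRingCat.ofHom (Curv2.resMap k Z η) ≫ CommRingCat.ofHom π) = _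
    rw [Spec.map_comp, Groth.L22.FibreDim.SpecMap_resMap, ← Category.assoc, hπ, Category.assoc]
  obtain ⟨E, hE⟩ := exists_eval (f ≫ (Z ↘ Spec (CommRingCat.of k))) hk hdX
  obtain ⟨a, b, hab, hba⟩ := Groth.L17.FinLocBases.exists_split n e
  let g : Fin n → Γ((Scheme.Modules.pullback f).obj ΩZ, ⊤) := fun i => (a i).app ⊤ (1 : Γ(X, ⊤))
  let v : Fin n → Ω[X.functionField⁄k] := fun i => E.ψ ⊤ trivial (c.app ⊤ (g i))
  have hv : ∀ z : Z.residueField η, KaehlerDifferential.D k X.functionField
      (algebraMap (Z.residueField η) X.functionField z) ∈ Submodule.span X.functionField (Set.range v) := by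
    intro z
    obtain ⟨z, rfl⟩ := Z.residue_surjective η z
    obtain ⟨W, hW, b', rfl⟩ := Z.presheaf.germ_exist z
    show KaehlerDifferential.D k X.functionField (π _) ∈ _
    rw [hgerm W hW b', ← hE (f ⁻¹ᵁ W) hW, ← hc W b']
    obtain ⟨r, hr⟩ := (Groth.L17.FinLocBases.bijective_lc a b hab hba (f ⁻¹ᵁ W)).2
      (pullSect f ΩZ W (dZ.app W b'))
    rw [← hr]
    simp only [map_sum, Scheme.Modules.Hom.app_smul, E.smul]
    refine Submodule.sum_mem _ fun i _ => Submodule.smul_mem _ _ (Submodule.subset_span ⟨i, ?_⟩)
    refine (E.res ⊤ (f ⁻¹ᵁ W) hW le_top (c.app ⊤ (g i))).symm.trans ?_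
    exact congrArg (E.ψ _ _) (congr($(c.mapPresheaf.naturality (homOfLE (le_top : f ⁻¹ᵁ W ≤ ⊤)).op) (g i))).symm
  obtain ⟨σ, hσ⟩ := exists_linearIndependent_of_span k (Z.residueField η) X.functionField htr v hv
  exact ⟨_, inferInstance, inferInstance, E, fun i => c.app ⊤ (g (σ i)), hσ⟩

/-- A geometrically reduced (after base change to an algebraic closure) integral scheme over a field has its
generic point in the smooth locus. -/
theorem genericPoint_mem_smoothLocus {k : Type u} [Field k] {X : Scheme.{u}} [IsIntegral X]
    (sX : X ⟶ Spec (CommRingCat.of k)) [LocallyOfFinitePresentation sX]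
    (hred : AlgebraicGeometry.IsReduced
      (pullback sX (Spec.map (CommRingCat.ofHom (algebraMap k (AlgebraicClosure k)))))) :
    genericPoint X ∈ sX.smoothLocus := by
  haveI : Flat (X.fromSpecStalk (genericPoint X)) := flat_fromSpecStalk _
  obtain ⟨φ, hφ⟩ := Spec.map_surjective (X.fromSpecStalk (genericPoint X) ≫ sX)
  have hFS : φ.hom.FormallySmooth := formallySmooth_of_pullback sX (genericPoint X) k X.functionField
    (𝟙 _) (X.fromSpecStalk (genericPoint X)) φ.hom ((Category.comp_id _).trans hφ) (by rwa [Category.comp_id])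
  show (sX.stalkMap (genericPoint X)).hom.FormallySmooth
  have h : φ = ((Scheme.ΓSpecIso (CommRingCat.of k)).inv ≫
      (Spec (CommRingCat.of k)).presheaf.germ ⊤ (sX (genericPoint X)) trivial) ≫
      sX.stalkMap (genericPoint X) := by
    apply Spec.map_injective
    rw [hφ, Spec.map_comp, Spec.map_comp, ← Scheme.SpecMap_stalkMap_fromSpecStalk sX]
    congr 1
    rw [Spec.fromSpecStalk_eq, Spec.map_comp]
  rw [h] at hFS
  haveI : IsIso ((Spec (CommRingCat.of k)).presheaf.germ ⊤ (sX (genericPoint X)) trivial) := by
    have hp : sX (genericPoint X) = IsLocalRing.closedPoint k := Subsingleton.elim (α := PrimeSpectrum k) _ _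
    rw [hp, ← ΓSpecIso_hom_stalkClosedPointIso_inv (CommRingCat.of k)]
    infer_instance
  exact (RingHom.FormallySmooth.respectsIso.cancel_left_isIso _ _).1 hFS

end Groth.L15.OmegaGen
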