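import Mathlib.AlgebraicGeometry.Geometrically.Reduced
import Mathlib.LinearAlgebra.Dimension.Constructions
import Mathlib.RingTheory.RingHom.Smooth
import Mathlib.AlgebraicGeometry.Pullbacks
import Groth.Agent.L03.CartierEq
import Groth.Agent.L15.OmegaGen.Light
import Groth.Agent.L03.GeomReduced

/-!
Separable extensions of fields: formal smoothness from a reduced base change, and linearly independent
differentials coming from an intermediate field.
-/

set_option autoImplicit false
set_option linter.style.haveILetI false
set_option backward.isDefEq.respectTransparency.types false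
set_option backward.isDefEq.respectTransparency false

universe u

open CategoryTheory CategoryTheory.Limits AlgebraicGeometry TensorProduct

noncomputable section

namespace Groth.L15.OmegaGen

/-- The function field is formally smooth over `E` when the base change of `X` to `Ē` is reduced. -/
theorem formallySmooth_of_pullback {X Z : Scheme.{u}} (f : X ⟶ Z) (x : X) (E K : Type u) [Field E] [Field K]
    (ι : Spec (CommRingCat.of E) ⟶ Z) [Mono ι] (q : Spec (CommRingCat.of K) ⟶ X) [Flat q] [IsPreimmersion q]
    (π : E →+* K) (h : Spec.map (CommRingCat.ofHom π) ≫ ι = q ≫ f)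
    (hred : AlgebraicGeometry.IsReduced
      (pullback f (Spec.map (CommRingCat.ofHom (algebraMap E (AlgebraicClosure E))) ≫ ι))) :
    π.FormallySmooth := by
  letI := π.toAlgebra
  let b : Spec (CommRingCat.of (AlgebraicClosure E)) ⟶ Spec (CommRingCat.of E) :=
    Spec.map (CommRingCat.ofHom (algebraMap E (AlgebraicClosure E)))
  let a : Spec (CommRingCat.of K) ⟶ Spec (CommRingCat.of E) := Spec.map (CommRingCat.ofHom (algebraMap E K))
  have h' : IsPullback (pullback.fst a b) (pullback.snd a b) (q ≫ f) (b ≫ ι) := by
    have h1 : IsPullback (pullback.fst a b) (pullback.snd a b) (a ≫ ι) (b ≫ ι) :=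
      IsPullback.of_isLimit (PullbackCone.isLimitOfCompMono _ _ ι
        (IsPullback.of_hasPullback a b).cone (IsPullback.of_hasPullback a b).isLimit)
    rwa [show a ≫ ι = q ≫ f from h] at h1
  let v : pullback a b ⟶ pullback f (b ≫ ι) := pullback.lift (pullback.fst a b ≫ q) (pullback.snd a b)
    (by rw [Category.assoc]; exact h'.w)
  have hv : IsPullback (pullback.fst a b) v q (pullback.fst f (b ≫ ι)) :=
    IsPullback.of_bot (by rwa [pullback.lift_snd]) (pullback.lift_fst _ _ _).symm
      (IsPullback.of_hasPullback f (b ≫ ι))
  haveI : Flat v := MorphismProperty.of_isPullback hv ‹Flat q›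
  haveI : IsPreimmersion v := MorphismProperty.of_isPullback hv ‹IsPreimmersion q›
  haveI : AlgebraicGeometry.IsReduced (pullback f (b ≫ ι)) := hred
  haveI : AlgebraicGeometry.IsReduced (pullback a b) :=
    isReduced_of_flat_preimmersion v
  haveI : AlgebraicGeometry.IsReduced (Spec (CommRingCat.of (K ⊗[E] AlgebraicClosure E))) :=
    isReduced_of_isOpenImmersion (pullbackSpecIso E K (AlgebraicClosure E)).inv
  haveI : _root_.IsReduced (K ⊗[E] AlgebraicClosure E) :=
    (affine_isReduced_iff (CommRingCat.of (K ⊗[E] AlgebraicClosure E))).1 inferInstance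
  have hred' : _root_.IsReduced (AlgebraicClosure E ⊗[E] K) :=
    isReduced_of_injective (Algebra.TensorProduct.comm E (AlgebraicClosure E) K)
      (Algebra.TensorProduct.comm E (AlgebraicClosure E) K).injective
  haveI : Algebra.IsGeometricallyReduced E K := (Algebra.isGeometricallyReduced_field_iff E K).2 hred'
  exact (Groth.L03.GeomReduced.formallySmooth_iff E K).2 inferInstance

/-- A formally smooth extension `K/E`, `trdeg E/k = m`: vectors spanning all `D e` contain `m` independent ones. -/
theorem exists_linearIndependent_of_span (k E K : Type u) [Field k] [Field E] [Field K] [Algebra k E]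
    [Algebra k K] [Algebra E K] [IsScalarTower k E K] [Algebra.FormallySmooth E K] [Algebra.EssFiniteType k E]
    {m : ℕ} (hm : Algebra.trdeg k E = m) {d : ℕ} (v : Fin d → Ω[K⁄k])
    (hv : ∀ e : E, KaehlerDifferential.D k K (algebraMap E K e) ∈ Submodule.span K (Set.range v)) :
    ∃ σ : Fin m → Fin d, LinearIndependent K (v ∘ σ) := by
  classical
  set S := Submodule.span K (Set.range v) with hS
  have h1 : ∀ y : Ω[E⁄k], KaehlerDifferential.map k k E K y ∈ S := by
    intro y
    have hy : y ∈ Submodule.span E (Set.range (KaehlerDifferential.D k E)) := by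
      rw [KaehlerDifferential.span_range_derivation]; trivial
    induction hy using Submodule.span_induction with
    | mem z hz =>
      obtain ⟨e, rfl⟩ := hz
      rw [KaehlerDifferential.map_D]
      exact hv e
    | zero => rw [map_zero]; exact S.zero_mem
    | add a b _ _ ha hb => rw [map_add]; exact S.add_mem ha hb
    | smul c a _ ha =>
      rw [map_smul, ← IsScalarTower.algebraMap_smul K c]
      exact S.smul_mem _ ha
  have h2 : ∀ z : K ⊗[E] Ω[E⁄k], KaehlerDifferential.mapBaseChange k E K z ∈ S := by
    intro z
    induction z using TensorProduct.induction_on with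
    | zero => rw [map_zero]; exact S.zero_mem
    | tmul x y =>
      rw [KaehlerDifferential.mapBaseChange_tmul]
      exact S.smul_mem _ (h1 y)
    | add a b ha hb => rw [map_add]; exact S.add_mem ha hb
  have hinj : Function.Injective (KaehlerDifferential.mapBaseChange k E K) := by
    refine (injective_iff_map_eq_zero _).2 fun z hz => ?_
    obtain ⟨w, rfl⟩ := (Algebra.H1Cotangent.exact_δ_mapBaseChange k E K z).1 hz
    haveI : Subsingleton (Algebra.H1Cotangent E K) := Algebra.FormallySmooth.subsingleton_h1Cotangent
    rw [Subsingleton.elim w 0, map_zero]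
  obtain ⟨hfin, -, -, hcart⟩ := Groth.L03.CartierEq.cartier k E
  haveI := hfin
  have hge : m ≤ Module.finrank E Ω[E⁄k] := by
    rw [hm, Cardinal.toNat_natCast] at hcart
    omega
  let F : K ⊗[E] Ω[E⁄k] →ₗ[K] S := (KaehlerDifferential.mapBaseChange k E K).codRestrict S h2
  have hF : Function.Injective F := fun a b h => hinj (congrArg Subtype.val h)
  haveI : Module.Finite K S := Module.Finite.span_of_finite K (Set.finite_range v)
  have hrk : m ≤ Module.finrank K S := by
    refine hge.trans ?_
    rw [← Module.finrank_baseChange (R := K)]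
    exact LinearMap.finrank_le_finrank_of_injective hF
  obtain ⟨κ, a, ha, hspan, hli⟩ := exists_linearIndependent' K v
  haveI : Finite κ := Finite.of_injective a ha
  haveI := Fintype.ofFinite κ
  have hcard : Fintype.card κ = Module.finrank K S := by
    rw [hS, ← hspan]
    exact (finrank_span_eq_card hli).symm
  obtain ⟨g, hg⟩ : ∃ g : Fin m → κ, Function.Injective g := by
    refine ⟨(Fintype.equivFin κ).symm ∘ Fin.castLE (hcard ▸ hrk), ?_⟩
    exact (Fintype.equivFin κ).symm.injective.comp (Fin.castLE_injective _)
  exact ⟨a ∘ g, hli.comp g hg⟩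

end Groth.L15.OmegaGen
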