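import Groth.Agent.L15.OmegaGen.Eval
import Groth.Prelude.Def_Pi1

/-!
Independent forms on the smooth locus.
-/

set_option autoImplicit false
set_option linter.style.haveILetI false
set_option backward.isDefEq.respectTransparency.types false
set_option backward.isDefEq.respectTransparency false

universe u

open CategoryTheory CategoryTheory.Limits AlgebraicGeometry TopologicalSpace Opposite

noncomputable section

namespace Groth.L15.OmegaGen

open Groth.L18.Frame (rs ro rs_rs ro_ro rs_smul ro_self rs_self)

theorem genericPoint_mem_of_geomNormal (k : Type u) [Field k] (X : Scheme.{u}) [IsIntegral X]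
    (sX : X ⟶ Spec (CommRingCat.of k)) [LocallyOfFiniteType sX]
    (hgn : ∀ (K : Type u) [Field K] [Algebra k K] [IsAlgClosure k K],
      Pi1.IsNormalScheme (pullback sX (Spec.map (CommRingCat.ofHom (algebraMap k K)))))
    (U : X.Opens) (hUmax : ∀ V : X.Opens, Smooth (V.ι ≫ sX) → V ≤ U) : genericPoint X ∈ U := by
  haveI : LocallyOfFinitePresentation sX := inferInstance
  refine hUmax sX.smoothLocus ?_ (genericPoint_mem_smoothLocus sX ?_)
  · rw [← Scheme.Hom.smoothLocus_eq_top_iff, ← Scheme.Hom.preimage_smoothLocus_eq]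
    exact sX.smoothLocus.ι_preimage_self
  · haveI : ∀ x : ↥(pullback sX (Spec.map (CommRingCat.ofHom (algebraMap k (AlgebraicClosure k))))),
        _root_.IsReduced ((pullback sX
          (Spec.map (CommRingCat.ofHom (algebraMap k (AlgebraicClosure k))))).presheaf.stalk x) := fun x => by
      haveI := ((hgn (AlgebraicClosure k)) x).1
      infer_instance
    exact isReduced_of_isReduced_stalk _

/-- The image point of the generic point is the generic point of the closure of the image. -/
theorem eq_of_closure_eq_closure_range {X Z : Scheme.{u}} [IsIntegral X] (f : X ⟶ Z) {η : Z}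
    (hη : closure ({η} : Set Z) = closure (Set.range f.base)) : η = f (genericPoint X) := by
  have h : IsGenericPoint (f (genericPoint X)) (closure (Set.range f.base)) := by
    have h0 := (genericPoint_spec X).image f.continuous
    rwa [Set.image_univ] at h0
  exact (show IsGenericPoint η (closure (Set.range f.base)) from hη).eq h

variable {X : Scheme.{u}} [IsIntegral X] {Ω : X.Modules} {M : Type u} [AddCommGroup M]
  [Module X.functionField M]

/-- The exterior product of sections with independent values at the generic point, as a nonzero section. -/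
theorem exists_ne_zero_extPow {m : ℕ} {L : X.Modules} (hL : ExtPow.IsExtPow m Ω L) (E : Eval Ω M)
    (U : X.Opens) (hU : genericPoint X ∈ U) (s : Fin m → Γ(Ω, U))
    (hs : LinearIndependent X.functionField (fun i => E.ψ U hU (s i))) :
    ∃ t : L.val.obj (op U), t ≠ 0 := by
  obtain ⟨φ, hφ⟩ := hL
  obtain ⟨t, ht, -⟩ := Groth.L19.OmegaSh.existsUnique_glue L (fun _ => True)
    (fun x O hx => by
      obtain ⟨_, ⟨W, hW, rfl⟩, hxW, hWO⟩ := X.isBasis_affineOpens.exists_subset_of_mem_open hx O.2
      exact ⟨⟨W, hW⟩, trivial, hxW, hWO⟩)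
    U (fun V _ h => (φ V).symm (exteriorPower.ιMulti _ m fun i => rs Ω h (s i)))
    (fun V V' _ _ hV hV' h => by
      refine (hφ V V' h fun i => rs Ω hV (s i)).trans ?_
      congr 2
      funext i
      exact rs_rs Ω hV h (s i))
  refine ⟨t, fun h0 => ?_⟩
  obtain ⟨_, ⟨W, hW, rfl⟩, hxW, hWU⟩ := X.isBasis_affineOpens.exists_subset_of_mem_open hU U.2
  have h1 := ht ⟨W, hW⟩ trivial hWU
  rw [show t = (0 : Γ(L, U)) from h0] at h1
  have h2 : (φ ⟨W, hW⟩).symm (exteriorPower.ιMulti _ m fun i => rs Ω hWU (s i)) = 0 :=
    h1.symm.trans (map_zero _)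
  refine E.ιMulti_ne_zero W hxW (fun i => rs Ω hWU (s i)) ?_ ((φ ⟨W, hW⟩).symm.map_eq_zero_iff.1 h2)
  have h3 : (fun i => E.ψ W hxW (rs Ω hWU (s i))) = fun i => E.ψ U hU (s i) :=
    funext fun i => E.res U W hxW hWU (s i)
  rw [h3]; exact hs

end Groth.L15.OmegaGen
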